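import Mathlib
import Cfsg.Agent.H966.PSLAut
import Cfsg.Agent.S0249
import Cfsg.Agent.S0813
import Cfsg.Agent.H183.OutPSL
import Cfsg.Agent.S0820
import Cfsg.Agent.FastGrp
import Cfsg.Agent.Prune
set_option linter.all false
prune_inst 0x7f00000000000000000000000000000000000000000000000000000000000000000000000000000000000000000000000000000000000000000000000000000000000000000000000000000000000000003fffffffffffffffffffffffffffbeffbdffffffff
open scoped Cfsg.Agent.FastGrp

-- part: H319/AutNormal
section
/-!
# The automorphism group of a normal subgroup of `Aut K` containing `Inn K` (helper319)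
-/

set_option autoImplicit false

open Subgroup

namespace Cfsg.Agent.H319.AutNormal

variable {K : Type*} [Group K]

theorem conj_injective [IsSimpleGroup K] (hna : ∃ a b : K, a * b ≠ b * a) :
    Function.Injective (MulAut.conj : K →* MulAut K) := by
  rw [injective_iff_map_eq_one]
  intro x hx
  have h1 : x ∈ center K := by
    rw [mem_center_iff]
    intro y
    have h2 : MulAut.conj x y = y := by rw [hx]; rfl
    rw [MulAut.conj_apply] at h2
    calc y * x = (x * y * x⁻¹) * x := by rw [h2]
      _ = x * y := by group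
  rcases (inferInstance : (center K).Normal).eq_bot_or_eq_top with h | h
  · rw [h] at h1; exact mem_bot.1 h1
  · obtain ⟨a, b, hab⟩ := hna
    exact absurd (mem_center_iff.1 (h ▸ mem_top b : b ∈ center K) a) hab

theorem conj_eq (α : MulAut K) (k : K) : α * MulAut.conj k * α⁻¹ = MulAut.conj (α k) := by
  apply MulEquiv.ext
  intro x
  change α (k * (α⁻¹ x) * k⁻¹) = α k * x * (α k)⁻¹
  rw [map_mul, map_mul, map_inv]
  congr 2
  exact MulAut.apply_inv_self _ α x

variable (N : Subgroup (MulAut K))

/-- the embedding of `K` in `N` -/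
def emb (hI : (MulAut.conj : K →* MulAut K).range ≤ N) : K →* N :=
  (MulAut.conj : K →* MulAut K).codRestrict N fun k => hI ⟨k, rfl⟩

theorem coe_emb (hI : (MulAut.conj : K →* MulAut K).range ≤ N) (k : K) :
    ((emb N hI k : N) : MulAut K) = MulAut.conj k := rfl

theorem emb_conj (hI : (MulAut.conj : K →* MulAut K).range ≤ N) (n : N) (k : K) :
    n * emb N hI k * n⁻¹ = emb N hI ((n : MulAut K) k) := Subtype.ext (conj_eq (n : MulAut K) k)

theorem emb_injective [IsSimpleGroup K] (hna : ∃ a b : K, a * b ≠ b * a)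
    (hI : (MulAut.conj : K →* MulAut K).range ≤ N) : Function.Injective (emb N hI) := by
  intro x y h
  exact conj_injective hna (congrArg Subtype.val h)

/-- elements of `N` centralising the image of `K` are trivial -/
theorem eq_one_of_cent [IsSimpleGroup K] (hna : ∃ a b : K, a * b ≠ b * a)
    (hI : (MulAut.conj : K →* MulAut K).range ≤ N) {n : N}
    (h : ∀ k, n * emb N hI k = emb N hI k * n) : n = 1 := by
  apply Subtype.ext
  apply MulEquiv.ext
  intro k
  apply emb_injective N hna hI
  have h1 := emb_conj N hI n k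
  rw [h k, mul_inv_cancel_right] at h1
  exact h1.symm

theorem map_range [Finite K] [IsSimpleGroup K] (hna : ∃ a b : K, a * b ≠ b * a)
    (hI : (MulAut.conj : K →* MulAut K).range ≤ N) (β : MulAut N) :
    (emb N hI).range.map (β : N →* N) = (emb N hI).range := by
  set P := (emb N hI).range with hP
  have hPn : P.Normal := by
    refine ⟨?_⟩
    rintro _ ⟨k, rfl⟩ n
    exact ⟨_, (emb_conj N hI n k).symm⟩
  have hQn : (P.map (β : N →* N)).Normal := hPn.map _ β.surjective
  let e : K ≃* P := MonoidHom.ofInjective (emb_injective N hna hI)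
  have hPs : IsSimpleGroup P := e.symm.isSimpleGroup
  have hcard : Nat.card (P.map (β : N →* N)) = Nat.card P :=
    Subgroup.card_map_of_injective β.injective
  have hfin : Finite P := Finite.of_equiv K e.toEquiv
  have hI1 : ((P ⊓ P.map (β : N →* N)).subgroupOf P).Normal := by
    refine ⟨fun x hx g => ?_⟩
    rw [Subgroup.mem_subgroupOf] at hx ⊢
    exact ⟨hPn.conj_mem _ hx.1 g, hQn.conj_mem _ hx.2 g⟩
  rcases hI1.eq_bot_or_eq_top with h | h
  · exfalso
    have hdis : P ⊓ P.map (β : N →* N) = ⊥ := by
      rw [eq_bot_iff]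
      intro x hx
      have h1 : (⟨x, hx.1⟩ : P) ∈ (P ⊓ P.map (β : N →* N)).subgroupOf P := hx
      rw [h, mem_bot] at h1
      exact mem_bot.2 (congrArg Subtype.val h1)
    have h1 : P.map (β : N →* N) = ⊥ := by
      rw [eq_bot_iff]
      intro x hx
      refine mem_bot.2 (eq_one_of_cent N hna hI fun k => ?_)
      have hk : emb N hI k ∈ P := ⟨k, rfl⟩
      have h2 : x * emb N hI k * x⁻¹ * (emb N hI k)⁻¹ ∈ P ⊓ P.map (β : N →* N) := by
        refine ⟨P.mul_mem (hPn.conj_mem _ hk x) (P.inv_mem hk), ?_⟩
        have h3 : x * emb N hI k * x⁻¹ * (emb N hI k)⁻¹ = x * (emb N hI k * x⁻¹ * (emb N hI k)⁻¹) := by group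
        rw [h3]
        exact (P.map (β : N →* N)).mul_mem hx (hQn.conj_mem _ ((P.map (β : N →* N)).inv_mem hx) _)
      rw [hdis, mem_bot] at h2
      calc x * emb N hI k = (x * emb N hI k * x⁻¹ * (emb N hI k)⁻¹) * emb N hI k * x := by group
        _ = emb N hI k * x := by rw [h2, one_mul]
    rw [h1, Subgroup.card_bot] at hcard
    have h4 : Nat.card K = 1 := by rw [Nat.card_congr e.toEquiv, ← hcard]
    have h5 : 1 < Nat.card K := Finite.one_lt_card
    omega
  · have hle : P ≤ P.map (β : N →* N) := by
      intro x hx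
      have h1 : (⟨x, hx⟩ : P) ∈ (P ⊓ P.map (β : N →* N)).subgroupOf P := by rw [h]; exact mem_top _
      exact h1.2
    have hfin' : Finite (P.map (β : N →* N)) := by
      have : Finite P := hfin
      exact Finite.of_equiv P (P.equivMapOfInjective _ β.injective).toEquiv
    exact (Subgroup.eq_of_le_of_card_ge hle hcard.le).symm

theorem nonempty_equiv [Finite K] [IsSimpleGroup K] (hna : ∃ a b : K, a * b ≠ b * a) [N.Normal]
    (hI : (MulAut.conj : K →* MulAut K).range ≤ N) : Nonempty (MulAut K ≃* MulAut N) := by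
  refine ⟨MulEquiv.ofBijective (MulAut.conjNormal (H := N)) ⟨?_, ?_⟩⟩
  · rw [injective_iff_map_eq_one]
    intro α hα
    apply MulEquiv.ext
    intro k
    apply conj_injective hna
    rw [← conj_eq]
    have h1 : (MulAut.conjNormal (H := N) α (emb N hI k) : MulAut K) = emb N hI k := by rw [hα]; rfl
    rw [MulAut.conjNormal_apply, coe_emb] at h1
    exact h1
  · intro β
    let e : K ≃* (emb N hI).range := MonoidHom.ofInjective (emb_injective N hna hI)
    have hmem : ∀ k, β (emb N hI k) ∈ (emb N hI).range := by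
      intro k
      have h1 := map_range N hna hI β
      rw [← h1]
      exact ⟨_, ⟨k, rfl⟩, rfl⟩
    let f : K →* K :=
      { toFun := fun k => e.symm ⟨β (emb N hI k), hmem k⟩
        map_one' := by
          have : (⟨β (emb N hI 1), hmem 1⟩ : (emb N hI).range) = 1 := Subtype.ext (by simp only [_root_.map_one, _root_.OneMemClass.coe_one])
          rw [this, map_one]
        map_mul' := fun x y => by
          rw [← map_mul]
          congr 1
          apply Subtype.ext
          change β (emb N hI (x * y)) = β (emb N hI x) * β (emb N hI y)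
          rw [map_mul, map_mul] }
    have hf : ∀ k, emb N hI (f k) = β (emb N hI k) := by
      intro k
      have h1 : e (f k) = ⟨β (emb N hI k), hmem k⟩ := e.apply_symm_apply _
      exact congrArg Subtype.val h1
    have hinj : Function.Injective f := by
      intro x y h
      apply emb_injective N hna hI
      apply β.injective
      rw [← hf, ← hf, h]
    let α : MulAut K := MulEquiv.ofBijective f ⟨hinj, Finite.injective_iff_surjective.1 hinj⟩
    have hα : ∀ k, emb N hI (α k) = β (emb N hI k) := hf
    refine ⟨α, ?_⟩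
    apply MulEquiv.ext
    intro n
    apply Subtype.ext
    rw [MulAut.conjNormal_apply]
    apply MulEquiv.ext
    intro k
    apply emb_injective N hna hI
    have h1 := emb_conj N hI (β n) k
    rw [← h1]
    have h2 : β (emb N hI (α⁻¹ k)) = emb N hI k := by
      rw [← hα, MulAut.apply_inv_self]
    change emb N hI (α ((n : MulAut K) (α⁻¹ k))) = _
    rw [hα, ← emb_conj, map_mul, map_mul, h2, map_inv]

end Cfsg.Agent.H319.AutNormal
end

-- part: H319/PslFour
section
/-!
# `PSL(3,4)`: automorphisms and the centralizer of an involution (helper319)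
-/

set_option autoImplicit false

open Subgroup Matrix
open Cfsg.Agent.ClassicalGeometry.AutPSL.Root
open Cfsg.Agent.ClassicalGeometry.AutPSL.Auto
open Cfsg.Agent.ClassicalGeometry.AutPSL.Main

namespace Cfsg.Agent.H319.PslFour

universe u

variable {F : Type u} [Field F] [Fintype F]

theorem not_comm_psl : ∃ a b : Matrix.ProjectiveSpecialLinearGroup (Fin 3) F, a * b ≠ b * a := by
  by_contra hcon
  push Not at hcon
  have h1 := H183.OutPSL.center_psl (F := F) (n := 3) (by norm_num) (by norm_num)
  have hs : IsSimpleGroup (Matrix.ProjectiveSpecialLinearGroup (Fin 3) F) := S0249.result 3 le_rfl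
  obtain ⟨x, hx⟩ := exists_ne (1 : Matrix.ProjectiveSpecialLinearGroup (Fin 3) F)
  have h2 : x ∈ center (Matrix.ProjectiveSpecialLinearGroup (Fin 3) F) := mem_center_iff.2 fun y => hcon y x
  rw [h1] at h2
  exact hx (mem_bot.1 h2)

/-- `Aut(PSL₃(F)) ≅ Aut(PGL₃(F))` -/
theorem aut_equiv : Nonempty (MulAut (Matrix.ProjectiveSpecialLinearGroup (Fin 3) F) ≃*
    MulAut (GL (Fin 3) F ⧸ Subgroup.center (GL (Fin 3) F))) := by
  have hs : IsSimpleGroup (Matrix.ProjectiveSpecialLinearGroup (Fin 3) F) := S0249.result 3 le_rfl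
  have hfin : Finite (Matrix.ProjectiveSpecialLinearGroup (Fin 3) F) := inferInstance
  set N : Subgroup (MulAut (Matrix.ProjectiveSpecialLinearGroup (Fin 3) F)) := H966.PSLAut.img 3 F with hN
  have hNn : N.Normal := by
    rw [hN, ← H966.PSLAut.inndiag_eq]
    exact H966.PSLAut.inndiag_normal (by norm_num)
  have hI : (MulAut.conj : Matrix.ProjectiveSpecialLinearGroup (Fin 3) F →* MulAut _).range ≤ N := by
    rintro _ ⟨x, rfl⟩
    obtain ⟨x, rfl⟩ := pr_surjective x
    refine ⟨(x : GL (Fin 3) F), ?_⟩
    apply MulEquiv.ext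
    intro y
    obtain ⟨y, rfl⟩ := pr_surjective y
    change lift (cj _) (pr y) = _
    rw [lift_pr, MulAut.conj_apply, ← map_mul, ← map_inv, ← map_mul]
    congr 1
  obtain ⟨e1⟩ := AutNormal.nonempty_equiv N not_comm_psl hI
  have hker : (lift.comp cj : GL (Fin 3) F →* MulAut (Matrix.ProjectiveSpecialLinearGroup (Fin 3) F)).ker =
      Subgroup.center (GL (Fin 3) F) := by
    ext C
    rw [MonoidHom.mem_ker, Matrix.GeneralLinearGroup.mem_center_iff_val_mem_range_scalar]
    constructor
    · intro h
      have h1 : lift (cj C * fld (RingEquiv.refl F)) = lift (fld (RingEquiv.refl F)) := by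
        rw [map_mul]
        change (lift.comp cj) C * _ = _
        rw [h, one_mul]
      exact (injective_aux h1).1
    · rintro ⟨r, hr⟩
      change lift (cj C) = 1
      rw [cj_eq_one_of_scalar hr, map_one]
  let e2 : (GL (Fin 3) F ⧸ Subgroup.center (GL (Fin 3) F)) ≃* N :=
    (QuotientGroup.quotientMulEquivOfEq hker.symm).trans (QuotientGroup.quotientKerEquivRange _)
  exact ⟨e1.trans (MulAut.congr e2.symm)⟩

theorem card_aut (hF : Fintype.card F = 4) : Nat.card (MulAut (Matrix.ProjectiveSpecialLinearGroup (Fin 3) F)) =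
    12 * Nat.card (Matrix.ProjectiveSpecialLinearGroup (Fin 3) F) := by
  have : Fact (Nat.Prime 2) := ⟨Nat.prime_two⟩
  have h1 := S0813.result (F := F) 2 2 (by norm_num) (by rw [hF]; norm_num) 3 (by norm_num) (by norm_num)
  rw [H183.OutPSL.card_pgl_eq (by norm_num), hF] at h1
  rw [h1]
  norm_num only [_root_.ite_false]
  ring

/-- The centralizer of the long root element consists of elements of order dividing 4. -/
theorem isPGroup_root [CharP F 2] (hF : Fintype.card F = 4) :
    IsPGroup 2 (centralizer ({pr (Matrix.SpecialLinearGroup.transvection (show (0 : Fin 3) ≠ 2 by decide) (1 : F))} :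
      Set (Matrix.ProjectiveSpecialLinearGroup (Fin 3) F))) := by
  rintro ⟨g, hg⟩
  refine ⟨2, Subtype.ext ?_⟩
  change g ^ 2 ^ 2 = 1
  obtain ⟨A, rfl⟩ := pr_surjective g
  have hc := mem_centralizer_singleton_iff.1 hg
  have h1 : pr (cj (A : GL (Fin 3) F) (Matrix.SpecialLinearGroup.transvection (show (0 : Fin 3) ≠ 2 by decide) (1 : F))) =
      pr (Matrix.SpecialLinearGroup.transvection (show (0 : Fin 3) ≠ 2 by decide) (1 : F)) := by
    have h2 : cj (A : GL (Fin 3) F) (Matrix.SpecialLinearGroup.transvection (show (0 : Fin 3) ≠ 2 by decide) (1 : F)) =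
        A * Matrix.SpecialLinearGroup.transvection (show (0 : Fin 3) ≠ 2 by decide) (1 : F) * A⁻¹ := rfl
    rw [h2, map_mul, map_mul, map_inv, hc, mul_inv_cancel_right]
  have h2 := cj_transvection_eq h1
  have e1 := congrFun (congrFun h2 0) 2
  have e2 := congrFun (congrFun h2 1) 2
  have e3 := congrFun (congrFun h2 2) 2
  have e4 := congrFun (congrFun h2 0) 1
  simp only [Matrix.mul_apply, Matrix.single_apply, _root_.Matrix.SpecialLinearGroup.coe_GL_coe_matrix, _root_.Fin.isValue, _root_.and_true, _root_.mul_ite, _root_.mul_one, _root_.MulZeroClass.mul_zero, _root_.Finset.sum_ite_eq, _root_.Finset.mem_univ, ↓ _root_.reduceIte, _root_.true_and, _root_.ite_mul, _root_.one_mul, _root_.MulZeroClass.zero_mul, _root_.zero_ne_one, _root_.false_and, _root_.not_false_eq_true, _root_.Matrix.single_apply_of_ne, _root_.Finset.sum_const_zero, _root_.Fin.reduceEq, _root_.and_false] at e1 e2 e3 e4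
  have hA := Matrix.eta_fin_three (A : Matrix (Fin 3) (Fin 3) F)
  have hdet : (A : Matrix (Fin 3) (Fin 3) F).det = 1 := A.2
  rw [Matrix.det_fin_three] at hdet
  generalize hx : (A : Matrix (Fin 3) (Fin 3) F) 0 0 = a at *
  generalize (A : Matrix (Fin 3) (Fin 3) F) 0 1 = x at *
  generalize (A : Matrix (Fin 3) (Fin 3) F) 0 2 = y at *
  generalize (A : Matrix (Fin 3) (Fin 3) F) 1 0 = c at *
  generalize (A : Matrix (Fin 3) (Fin 3) F) 1 1 = b at *
  generalize (A : Matrix (Fin 3) (Fin 3) F) 1 2 = w at *
  generalize (A : Matrix (Fin 3) (Fin 3) F) 2 0 = d at *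
  generalize (A : Matrix (Fin 3) (Fin 3) F) 2 1 = e at *
  generalize (A : Matrix (Fin 3) (Fin 3) F) 2 2 = f at *
  subst e2 e3 e4 e1
  have hdet' : a * a * b = 1 := by linear_combination hdet
  have ha : a ≠ 0 := by
    rintro rfl
    rw [zero_mul, zero_mul] at hdet'
    exact zero_ne_one hdet'
  have ha3 : a ^ 3 = 1 := by
    have := FiniteField.pow_card_sub_one_eq_one a ha
    rwa [hF] at this
  have hb : b = a := by
    apply mul_left_cancel₀ (mul_ne_zero ha ha)
    rw [hdet', ← ha3]; ring
  subst hb
  have two : (2 : F) = 0 := CharTwo.two_eq_zero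
  have hM : (A : Matrix (Fin 3) (Fin 3) F) * A = !![b * b, 0, x * w; 0, b * b, 0; 0, 0, b * b] := by
    rw [hA, Matrix.mul_fin_three]
    ext i j
    (revert i j; simp only [_root_.Fin.forall_fin_succ, _root_.MulZeroClass.mul_zero, _root_.add_zero, _root_.MulZeroClass.zero_mul, _root_.zero_add, _root_.Matrix.of_apply, _root_.Matrix.cons_val', _root_.Matrix.cons_val_fin_one, Fin.isValue, _root_.Matrix.cons_val_zero, _root_.Matrix.cons_val_succ, _root_.forall_const, _root_.implies_true, _root_.and_true, _root_.true_and]) <;> (repeat' with_reducible apply And.intro)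
    · linear_combination (b * x) * two
    · linear_combination (b * y) * two
    · linear_combination (b * w) * two
  have hM4 : ((A * A * (A * A) : Matrix.SpecialLinearGroup (Fin 3) F) : Matrix (Fin 3) (Fin 3) F) =
      (b * b * (b * b)) • ((1 : Matrix.SpecialLinearGroup (Fin 3) F) : Matrix (Fin 3) (Fin 3) F) := by
    rw [Matrix.SpecialLinearGroup.coe_mul, Matrix.SpecialLinearGroup.coe_mul, hM, Matrix.mul_fin_three,
      Matrix.SpecialLinearGroup.coe_one]
    ext i j
    (revert i j; simp only [_root_.Fin.forall_fin_succ, _root_.MulZeroClass.mul_zero, _root_.add_zero, _root_.MulZeroClass.zero_mul, _root_.zero_add, _root_.Matrix.of_apply, _root_.Matrix.cons_val', _root_.Matrix.cons_val_fin_one, _root_.Matrix.smul_apply, _root_.smul_eq_mul, Fin.isValue, _root_.Matrix.cons_val_zero, _root_.Matrix.cons_val_succ, _root_.IsEmpty.forall_iff, _root_.Matrix.one_apply_eq, _root_.mul_one, Nat.reduceAdd, _root_.Fin.succ_zero_eq_one, _root_.ne_eq, _root_.zero_ne_one, _root_.not_false_eq_true, _root_.Matrix.one_apply_ne, _root_.Fin.succ_one_eq_two,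 Fin.reduceEq, _root_.Fin.succ_ne_zero, _root_.zero_eq_mul, _root_.mul_eq_zero, _root_.or_self, _root_.or_true, _root_.and_true, _root_.true_and]) <;> (repeat' with_reducible apply And.intro)
    linear_combination (b * b * x * w) * two
  have h4 := pr_eq_of_smul hM4
  rw [map_one, map_mul, map_mul] at h4
  rw [h4, show (2 : ℕ) ^ 2 = 2 * 2 from rfl, pow_mul, pow_two, pow_two]

theorem isPGroup_cent (hF : Fintype.card F = 4) (t : Matrix.ProjectiveSpecialLinearGroup (Fin 3) F) (ht : orderOf t = 2) :
    IsPGroup 2 (centralizer ({t} : Set (Matrix.ProjectiveSpecialLinearGroup (Fin 3) F))) := by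
  have : CharP F 2 := by
    have : Fact (Nat.Prime 2) := ⟨Nat.prime_two⟩
    exact charP_of_card_eq_prime_pow (f := 2) hF
  have h1 := isPGroup_root hF
  set r := pr (Matrix.SpecialLinearGroup.transvection (show (0 : Fin 3) ≠ 2 by decide) (1 : F)) with hr
  have hr2 : orderOf r = 2 := by
    apply orderOf_eq_prime
    · rw [pow_two, hr, ← map_mul]
      have : Matrix.SpecialLinearGroup.transvection (show (0 : Fin 3) ≠ 2 by decide) (1 : F) *
          Matrix.SpecialLinearGroup.transvection (show (0 : Fin 3) ≠ 2 by decide) (1 : F) = 1 := by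
        apply Subtype.ext
        change Matrix.transvection 0 2 (1 : F) * Matrix.transvection 0 2 (1 : F) = 1
        rw [Matrix.transvection_mul_transvection_same _ _ (by decide), CharTwo.add_self_eq_zero,
          Matrix.transvection_zero]
      rw [this, map_one]
    · intro h
      rw [hr, pr_eq_one_iff, Matrix.SpecialLinearGroup.mem_center_iff] at h
      obtain ⟨c, -, hc⟩ := h
      have := congrFun (congrFun hc 0) 2
      simp [Matrix.SpecialLinearGroup.transvection, Matrix.transvection] at this
  obtain ⟨g, hg⟩ := isConj_iff.1 (S0820.result hF t r ht hr2)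
  rintro ⟨x, hx⟩
  have hx' := mem_centralizer_singleton_iff.1 hx
  have h2 : g * x * g⁻¹ ∈ centralizer ({r} : Set (Matrix.ProjectiveSpecialLinearGroup (Fin 3) F)) := by
    rw [mem_centralizer_singleton_iff, ← hg]
    calc g * x * g⁻¹ * (g * t * g⁻¹) = g * (x * t) * g⁻¹ := by group
      _ = g * t * g⁻¹ * (g * x * g⁻¹) := by rw [hx']; group
  obtain ⟨k, hk⟩ := h1 ⟨_, h2⟩
  refine ⟨k, Subtype.ext ?_⟩
  have h3 : (g * x * g⁻¹) ^ 2 ^ k = 1 := by
    have := congrArg (fun w : centralizer ({r} : Set (Matrix.ProjectiveSpecialLinearGroup (Fin 3) F)) =>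
      (w : Matrix.ProjectiveSpecialLinearGroup (Fin 3) F)) hk
    simpa only [Subgroup.coe_pow, Subgroup.coe_one] using this
  change x ^ 2 ^ k = 1
  rw [conj_pow] at h3
  have h4 := congrArg (fun w => g⁻¹ * w * g) h3
  simpa only [mul_assoc, _root_.inv_mul_cancel_left, _root_.inv_mul_cancel, _root_.mul_one] using h4

end Cfsg.Agent.H319.PslFour
end

private theorem dce_c869f3cbf5a9 : _root_.True := by
  try have : _root_.True := by simp only [_root_.Matrix.ProjectiveSpecialLinearGroup.congr_simp]
  try have : _root_.True := by simp only [_root_.Matrix.SpecialLinearGroup.transvection.eq_1]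
  try have : _root_.True := by simp only [_root_.Cfsg.Agent.H319.AutNormal.emb.congr_simp]
  exact _root_.True.intro
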